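import Mathlib.GroupTheory.Sylow
import Cfsg.Agent.Lib.LocalEven.Basic
import Cfsg.Agent.Lib.PStable.Involved

/-!
An involution in the group generated by two quadratically acting elements commutes with both, and
the consequence for a group in which no element of `p`-power order is real.
-/

set_option autoImplicit false
set_option linter.style.haveILetI false

namespace Cfsg.Agent.TwoClosedZJ

open Cfsg.Agent

/-- An element of order a power of two. -/
def IsTwoElem {G : Type*} [Group G] (g : G) : Prop := ∃ k : ℕ, g ^ 2 ^ k = 1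

/-- In an algebra generated by two elements of square zero the sum of a group element and its
inverse commutes with the generators. -/
theorem add_inv_commute {A : Type*} [Ring A] {K : Type*} [Group K] [Finite K] (φ : K →* A)
    {a b : K} (hgen : Subgroup.closure ({a, b} : Set K) = ⊤)
    (hd : (φ a - 1) * (φ a - 1) = 0) (he : (φ b - 1) * (φ b - 1) = 0) (k : K) :
    Commute (φ k + φ k⁻¹) (φ a - 1) := by
  set d := φ a - 1 with hd'
  set e := φ b - 1 with he'
  set h := d * e + e * d with hh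
  have had : φ a = 1 + d := by rw [hd']; abel
  have hbe : φ b = 1 + e := by rw [he']; abel
  have hhd : h * d = d * h := by
    rw [hh, add_mul, mul_add, mul_assoc e d d, hd, mul_zero, add_zero, ← mul_assoc d d e, hd,
      zero_mul, zero_add, mul_assoc]
  have hhe : h * e = e * h := by
    rw [hh, add_mul, mul_add, mul_assoc d e e, he, mul_zero, zero_add, ← mul_assoc e e d, he,
      zero_mul, add_zero, mul_assoc]
  have hinv : ∀ c : K, (φ c - 1) * (φ c - 1) = 0 → φ c⁻¹ = 1 - (φ c - 1) := by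
    intro c hc
    have h1 : φ c * (1 - (φ c - 1)) = 1 := by
      have : φ c * (1 - (φ c - 1)) = 1 - (φ c - 1) * (φ c - 1) := by noncomm_ring
      rw [this, hc, sub_zero]
    calc φ c⁻¹ = φ c⁻¹ * (φ c * (1 - (φ c - 1))) := by rw [h1, mul_one]
      _ = 1 - (φ c - 1) := by rw [← mul_assoc, ← map_mul, inv_mul_cancel, map_one, one_mul]
  -- the shape of an element and of its inverse
  let Shape : K → Prop := fun k => ∃ α β γ δ : A,
    Commute α d ∧ Commute α e ∧ Commute β d ∧ Commute β e ∧ Commute γ d ∧ Commute γ e ∧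
    Commute δ d ∧ Commute δ e ∧
      φ k = α + β * d + γ * e + δ * (d * e) ∧ φ k⁻¹ = α - β * d - γ * e + δ * (e * d)
  have hcd : Commute h d := hhd
  have hce : Commute h e := hhe
  have stepa : ∀ k, Shape k → Shape (k * a) := by
    rintro k ⟨α, β, γ, δ, h1, h2, h3, h4, h5, h6, h7, h8, hk, hk'⟩
    refine ⟨α + γ * h, β + α + δ * h, γ, δ - γ, h1.add_left (h5.mul_left hcd),
      h2.add_left (h6.mul_left hce), (h3.add_left h1).add_left (h7.mul_left hcd),
      (h4.add_left h2).add_left (h8.mul_left hce), h5, h6, h7.sub_left h5, h8.sub_left h6, ?_, ?_⟩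
    · rw [map_mul, hk, had]
      have e1 : (α + β * d + γ * e + δ * (d * e)) * (1 + d) =
          α + (β + α) * d + γ * e + δ * (d * e) + β * (d * d) + γ * (e * d) + δ * (d * e * d) := by
        noncomm_ring
      have e2 : e * d = h - d * e := by rw [hh]; abel
      have e3 : d * e * d = h * d := by
        rw [hh, add_mul, mul_assoc e d d, hd, mul_zero, add_zero]
      rw [e1, hd, e2, e3]
      noncomm_ring
    · rw [mul_inv_rev, map_mul, hk', hinv a hd, ← hd']
      have e1 : (1 - d) * (α - β * d - γ * e + δ * (e * d)) =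
          α - β * d - γ * e + δ * (e * d) - d * α + (d * β) * d + (d * γ) * e - (d * δ) * (e * d) := by
        noncomm_ring
      rw [e1, ← h1.eq, ← h3.eq, ← h5.eq, ← h7.eq]
      have e2 : d * e = h - e * d := by rw [hh]; abel
      have e3 : d * (e * d) = h * d := by
        rw [hh, add_mul, mul_assoc e d d, hd, mul_zero, add_zero, mul_assoc]
      rw [mul_assoc β d d, hd, mul_assoc γ d e, mul_assoc δ d, e2, e3]
      noncomm_ring
  have stepb : ∀ k, Shape k → Shape (k * b) := by
    rintro k ⟨α, β, γ, δ, h1, h2, h3, h4, h5, h6, h7, h8, hk, hk'⟩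
    refine ⟨α, β, γ + α, δ + β, h1, h2, h3, h4, h5.add_left h1, h6.add_left h2, h7.add_left h3,
      h8.add_left h4, ?_, ?_⟩
    · rw [map_mul, hk, hbe]
      have e1 : (α + β * d + γ * e + δ * (d * e)) * (1 + e) =
          α + β * d + (γ + α) * e + (δ + β) * (d * e) + γ * (e * e) + δ * d * (e * e) := by
        noncomm_ring
      rw [e1, he]
      noncomm_ring
    · rw [mul_inv_rev, map_mul, hk', hinv b he, ← he']
      have e1 : (1 - e) * (α - β * d - γ * e + δ * (e * d)) =
          α - β * d - γ * e + δ * (e * d) - e * α + (e * β) * d + (e * γ) * e - (e * δ) * (e * d) := by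
        noncomm_ring
      rw [e1, ← h2.eq, ← h4.eq, ← h6.eq, ← h8.eq, mul_assoc γ e e, he,
        mul_assoc δ e (e * d), ← mul_assoc e e d, he]
      noncomm_ring
  have hone : Shape 1 := ⟨1, 0, 0, 0, Commute.one_left _, Commute.one_left _, Commute.zero_left _,
    Commute.zero_left _, Commute.zero_left _, Commute.zero_left _, Commute.zero_left _,
    Commute.zero_left _, by simp, by simp⟩
  have hall : ∀ k : K, Shape k := by
    intro k
    have hk : k ∈ Submonoid.closure ({a, b} : Set K) := by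
      rw [← Subgroup.closure_toSubmonoid_of_finite, hgen]; trivial
    induction hk using Submonoid.closure_induction_right with
    | one => exact hone
    | mul_right x _ y hy ih =>
      rcases hy with rfl | rfl
      exacts [stepa x ih, stepb x ih]
  obtain ⟨α, β, γ, δ, h1, -, -, -, -, -, h7, -, hk, hk'⟩ := hall k
  have e1 : φ k + φ k⁻¹ = α + α + δ * h := by rw [hk, hk', hh]; noncomm_ring
  rw [e1]
  exact (h1.add_left h1).add_left (h7.mul_left hcd)

/-- An involution of a group generated by two quadratically acting elements commutes with them. -/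
theorem commute_of_involution {p : ℕ} [hp : Fact p.Prime] (hp2 : p ≠ 2) {V : Type*} [CommGroup V]
    [Module (ZMod p) (Additive V)] {K : Type*} [Group K] [Finite K] (ρ : K →* MulAut V)
    (hinj : Function.Injective ρ) {a b : K} (hgen : Subgroup.closure ({a, b} : Set K) = ⊤)
    (ha : ∀ v, ρ a (ρ a v * v⁻¹) = ρ a v * v⁻¹) (hb : ∀ v, ρ b (ρ b v * v⁻¹) = ρ b v * v⁻¹)
    {z : K} (hz : z * z = 1) : Commute z a := by
  set φ := (PStable.toLin (p := p) V).comp ρ with hφ
  have hsq : ∀ c : K, (∀ v, ρ c (ρ c v * v⁻¹) = ρ c v * v⁻¹) → (φ c - 1) * (φ c - 1) = 0 :=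
    fun c hc => by rw [← pow_two]; exact PStable.toLin_sq hc
  have h := add_inv_commute φ hgen (hsq a ha) (hsq b hb) z
  rw [inv_eq_of_mul_eq_one_right hz] at h
  have h2 : (2 : ZMod p) ≠ 0 := by
    intro h
    have h' : ((2 : ℕ) : ZMod p) = 0 := by exact_mod_cast h
    exact hp2 ((Nat.prime_dvd_prime_iff_eq hp.out Nat.prime_two).1
      ((ZMod.natCast_eq_zero_iff _ _).1 h'))
  have h' : Commute (φ z) (φ a - 1) := by
    have h3 : (2 : ZMod p) • φ z = φ z + φ z := two_smul _ _
    rw [← h3] at h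
    have h4 := h.smul_left (2 : ZMod p)⁻¹
    rwa [smul_smul, inv_mul_cancel₀ h2, one_smul] at h4
  have h5 : Commute (φ z) (φ a) := by
    have := h'.add_right (Commute.one_right (φ z))
    rwa [sub_add_cancel] at this
  refine hinj (PStable.toLin_injective (p := p) (V := V) ?_)
  simp only [map_mul]
  exact h5.eq

variable {p : ℕ} [hp : Fact p.Prime] (hp2 : p ≠ 2) {V : Type*} [CommGroup V] [Finite V]
  (hexp : ∀ v : V, v ^ p = 1) {H : Type*} [Group H] [Finite H] (ρ : H →* MulAut V)
  (hinj : Function.Injective ρ)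

/-- Quadratic action. -/
def Quad (x : H) : Prop := ∀ v, ρ x (ρ x v * v⁻¹) = ρ x v * v⁻¹

omit [Finite V] [Finite H] in
theorem Quad.conj {x : H} (hx : Quad ρ x) (g : H) : Quad ρ (g * x * g⁻¹) := by
  intro v
  have h := congrArg (ρ g) (hx ((ρ g)⁻¹ v))
  simpa [map_mul, map_inv, MulAut.mul_apply, MulAut.inv_apply_self, MulAut.apply_inv_self] using h

include hexp hinj

theorem Quad.pow_eq_one {x : H} (hx : Quad ρ x) : x ^ p = 1 := by
  letI : Module (ZMod p) (Additive V) := AddCommGroup.zmodModule fun x => hexp x.toMul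
  exact hinj (by rw [map_pow, map_one]; exact PStable.pow_eq_one_of_quad (p := p) hx)

include hp2

theorem two_dvd_of_quad {x : H} (hx : Quad ρ x) (hn : x ∉ Cfsg.pCore p H) : 2 ∣ Nat.card H := by
  obtain ⟨K, ψ, W, θ, hW, hψ, -, -⟩ := PStable.exists_natural_section hp2 hexp ρ hinj hx hn
  have h2 : orderOf (-1 : Matrix.SpecialLinearGroup (Fin 2) (ZMod p)) = 2 :=
    orderOf_eq_prime (by rw [pow_two]; simp) (PStable.neg_one_ne_one hp2)
  rw [← h2]
  exact (orderOf_dvd_natCard _).trans
    ((Subgroup.card_dvd_of_surjective ψ hψ).trans (Subgroup.card_subgroup_dvd_card K))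

variable (hnr : ∀ (t : H), IsTwoElem t → ∀ R : Subgroup H, IsPGroup p R →
  (∀ r ∈ R, t * r * t⁻¹ ∈ R) → ∀ r ∈ R, t * r * t⁻¹ = r)

include hnr

/-- A quadratic element centralizes some involution of each subgroup of even order it normalizes. -/
theorem exists_centralised {X : Subgroup H} {x : H} (hx : Quad ρ x)
    (hxX : x ∈ Subgroup.normalizer (X : Set H)) {t : H} (htX : t ∈ X) (ht : orderOf t = 2) :
    ∃ z ∈ X, orderOf z = 2 ∧ Commute z x := by
  have htt : t * t = 1 := by rw [← pow_two, ← ht, pow_orderOf_eq_one]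
  set x' := t * x * t⁻¹ with hx'
  set K := Subgroup.closure ({x, x'} : Set H) with hK
  have hxK : x ∈ K := Subgroup.subset_closure (Or.inl rfl)
  have hx'K : x' ∈ K := Subgroup.subset_closure (Or.inr rfl)
  have htx : t * x' * t⁻¹ = x := by
    have hti : t⁻¹ = t := inv_eq_of_mul_eq_one_right htt
    rw [hx', hti, show t * (t * x * t) * t = (t * t) * x * (t * t) by group, htt, one_mul, mul_one]
  have htK : ∀ r ∈ K, t * r * t⁻¹ ∈ K := by
    intro r hr
    have : r ∈ K.comap (MulAut.conj t).toMonoidHom := by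
      refine (Subgroup.closure_le _).2 ?_ hr
      rintro y (rfl | rfl)
      · exact hx'K
      · show t * x' * t⁻¹ ∈ K
        rw [htx]; exact hxK
    exact this
  by_cases hKp : IsPGroup p K
  · refine ⟨t, htX, ht, ?_⟩
    have h := hnr t ⟨1, by simpa [pow_two] using htt⟩ K hKp htK x hxK
    exact mul_inv_eq_iff_eq_mul.1 h
  let a : K := ⟨x, hxK⟩
  let b : K := ⟨x', hx'K⟩
  have hgen : Subgroup.closure ({a, b} : Set K) = ⊤ := by
    apply Subgroup.map_injective K.subtype_injective
    rw [MonoidHom.map_closure, ← MonoidHom.range_eq_map, Subgroup.range_subtype, Set.image_pair]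
    rfl
  have htN : t ∈ Subgroup.normalizer (K : Set H) :=
    Subgroup.mem_normalizer_iff.2 fun r => ⟨htK r, fun hr => by
      have h := htK _ hr
      rwa [show t * (t * r * t⁻¹) * t⁻¹ = (t * t) * r * (t * t)⁻¹ by group, htt, one_mul, inv_one,
        mul_one] at h⟩
  have hna : a ∉ Cfsg.pCore p K := by
    intro haO
    refine hKp ?_
    have hb : b ∈ Cfsg.pCore p K := by
      haveI := LEBasic.pCore_characteristic (G := K) (p := p)
      have hmap := Subgroup.characteristic_iff_map_le.1 this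
        (Subgroup.normalizerMonoidHom K ⟨t, htN⟩)
      exact hmap ⟨a, haO, Subtype.ext rfl⟩
    have htop : Cfsg.pCore p K = ⊤ := by
      rw [eq_top_iff, ← hgen, Subgroup.closure_le]
      rintro y (rfl | rfl)
      exacts [haO, hb]
    have := LEBasic.pCore_isPGroup (G := K) (p := p)
    rw [htop] at this
    exact this.of_equiv Subgroup.topEquiv
  have hρK : Function.Injective (ρ.comp K.subtype) := hinj.comp K.subtype_injective
  obtain ⟨z, hz⟩ := exists_prime_orderOf_dvd_card' (G := K) 2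
    (two_dvd_of_quad hp2 hexp (ρ.comp K.subtype) hρK (x := a) hx hna)
  letI : Module (ZMod p) (Additive V) := AddCommGroup.zmodModule fun x => hexp x.toMul
  have hzz : z * z = 1 := by rw [← pow_two, ← hz, pow_orderOf_eq_one]
  have hcomm := commute_of_involution hp2 (ρ.comp K.subtype) hρK hgen hx (hx.conj ρ t) hzz
  refine ⟨z, ?_, by rw [Subgroup.orderOf_coe, hz], congrArg Subtype.val hcomm.eq⟩
  set S := X ⊔ Subgroup.zpowers x with hS
  have hXS : X ≤ S := le_sup_left
  have hxS : x ∈ S := Subgroup.mem_sup_right (Subgroup.mem_zpowers x)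
  haveI : (X.subgroupOf S).Normal := Subgroup.normal_subgroupOf_of_le_normalizer
    (sup_le Subgroup.le_normalizer (Subgroup.zpowers_le.2 hxX))
  set f := QuotientGroup.mk' (X.subgroupOf S) with hf
  have hzS : (z : H) ∈ S := by
    refine (Subgroup.closure_le S).2 ?_ z.2
    rintro y (rfl | rfl)
    · exact hxS
    · exact S.mul_mem (S.mul_mem (hXS htX) hxS) (S.inv_mem (hXS htX))
  have hp1 : f ⟨z, hzS⟩ ^ p = 1 := by
    have hall : S ≤ ((Subgroup.zpowers (f ⟨x, hxS⟩)).comap f).map S.subtype := by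
      refine sup_le (fun y hy => ⟨⟨y, hXS hy⟩, ?_, rfl⟩)
        (Subgroup.zpowers_le.2 ⟨⟨x, hxS⟩, Subgroup.mem_zpowers _, rfl⟩)
      show f ⟨y, hXS hy⟩ ∈ Subgroup.zpowers (f ⟨x, hxS⟩)
      rw [show f ⟨y, hXS hy⟩ = 1 from (QuotientGroup.eq_one_iff (⟨y, hXS hy⟩ : S)).2 hy]
      exact one_mem _
    obtain ⟨⟨y, hy⟩, hy', hyz⟩ := hall hzS
    obtain rfl : y = (z : H) := hyz
    obtain ⟨i, hi⟩ := Subgroup.mem_zpowers_iff.1 hy'
    rw [← hi, ← zpow_natCast, zpow_comm, zpow_natCast, ← map_pow,
      show (⟨x, hxS⟩ : S) ^ p = 1 from Subtype.ext (hx.pow_eq_one hexp ρ hinj), map_one, one_zpow]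
  have hp2' : f ⟨z, hzS⟩ ^ 2 = 1 := by
    rw [← map_pow, show (⟨z, hzS⟩ : S) ^ 2 = 1 from Subtype.ext (by
      simpa [pow_two] using congrArg Subtype.val hzz), map_one]
  have h1 : f ⟨z, hzS⟩ = 1 :=
    orderOf_eq_one_iff.1 (Nat.eq_one_of_dvd_coprimes
      ((Nat.coprime_primes hp.out Nat.prime_two).2 hp2)
      (orderOf_dvd_of_pow_eq_one hp1) (orderOf_dvd_of_pow_eq_one hp2'))
  exact (QuotientGroup.eq_one_iff (⟨z, hzS⟩ : S)).1 h1

/-- No such group has a quadratic element outside its `p`-core when the proper overgroups of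
Sylow `p`-subgroups have no non-trivial `2`-elements. -/
theorem no_quadratic
    (hodd : ∀ (T : Sylow p H) (M : Subgroup H), (T : Subgroup H) ≤ M → M ≠ ⊤ →
      ∀ t ∈ M, IsTwoElem t → t = 1)
    {a : H} (ha : Quad ρ a) (hna : a ∉ Cfsg.pCore p H) : False := by
  obtain ⟨t, ht⟩ := exists_prime_orderOf_dvd_card' (G := H) 2 (two_dvd_of_quad hp2 hexp ρ hinj ha hna)
  obtain ⟨z₀, -, hz₀, hz₀a⟩ := exists_centralised hp2 hexp ρ hinj hnr (X := ⊤) ha
    (by rw [Subgroup.normalizer_eq_top]; trivial) (Subgroup.mem_top t) ht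
  obtain ⟨W, ⟨hWp, hWgen, hWn, z, hzW, hz⟩, hmax⟩ := Set.exists_max_image
    {W : Subgroup H | IsPGroup p W ∧ W ≤ Subgroup.closure {x | x ∈ W ∧ Quad ρ x} ∧
      ¬ W ≤ Cfsg.pCore p H ∧ ∃ z ∈ Subgroup.centralizer (W : Set H), orderOf z = 2}
    (fun W => Nat.card W) (Set.toFinite _)
    ⟨Subgroup.zpowers a, fun y => ⟨1, by
        obtain ⟨_, i, rfl⟩ := y
        apply Subtype.ext
        rw [pow_one, SubmonoidClass.coe_pow, OneMemClass.coe_one]
        show (a ^ i) ^ p = 1
        rw [← zpow_natCast, zpow_comm, zpow_natCast, ha.pow_eq_one hexp ρ hinj, one_zpow]⟩,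
      Subgroup.zpowers_le.2 (Subgroup.subset_closure ⟨Subgroup.mem_zpowers a, ha⟩),
      fun h => hna (h (Subgroup.mem_zpowers a)), z₀, by
        rw [Subgroup.mem_centralizer_iff]
        rintro _ ⟨i, rfl⟩
        exact ((hz₀a.zpow_right i).eq).symm, hz₀⟩
  set N := Subgroup.normalizer (W : Set H) with hN
  have hNtop : N ≠ ⊤ := fun h =>
    hWn (LEBasic.le_pCore (Subgroup.normalizer_eq_top_iff.1 h) hWp)
  haveI : (W.subgroupOf N).Normal :=
    Subgroup.normal_subgroupOf_of_le_normalizer le_rfl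
  obtain ⟨R⟩ : Nonempty (Sylow p N) := inferInstance
  set R' := (R : Subgroup N).map N.subtype with hR'
  have hR'p : IsPGroup p R' := R.isPGroup'.map _
  have hR'N : R' ≤ N := Subgroup.map_subtype_le _
  have hWR : W ≤ R' := fun w hw => ⟨⟨w, Subgroup.le_normalizer hw⟩,
    LEBasic.normal_le_sylow (N := W.subgroupOf N)
      ((hWp.comap_of_injective _ N.subtype_injective)) R hw, rfl⟩
  obtain ⟨T, hT⟩ := hR'p.exists_le_sylow
  have hzN : z ∈ N := by
    refine Subgroup.mem_normalizer_iff.2 fun w => ⟨fun hw => ?_, fun hw => ?_⟩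
    · rw [← hzW w hw, mul_inv_cancel_right]; exact hw
    · have h := hzW _ hw
      have : w = z * w * z⁻¹ := by
        calc w = z⁻¹ * (z * w * z⁻¹ * z) := by group
          _ = z⁻¹ * (z * (z * w * z⁻¹)) := by rw [h]
          _ = z * w * z⁻¹ := by group
      rw [this]; exact hw
  rcases hT.lt_or_eq with hlt | heq
  swap
  · have := hodd T N (heq ▸ hR'N) hNtop z hzN ⟨1, by rw [pow_one, ← hz, pow_orderOf_eq_one]⟩
    rw [this, orderOf_one] at hz
    omega
  by_cases hall : ∀ x ∈ R', Quad ρ x → x ∈ W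
  · obtain ⟨n, hn, hnR⟩ := SetLike.exists_of_lt (Fusion.lt_inf_normalizer T.isPGroup'.isNilpotent hlt)
    have hle : (T : Subgroup H) ⊓ Subgroup.normalizer (R' : Set H) ≤ N := by
      rintro g ⟨-, hg⟩
      have hsub : ∀ g' ∈ Subgroup.normalizer (R' : Set H), ∀ w ∈ W, g' * w * g'⁻¹ ∈ W := by
        intro g' hg' w hw
        have h1 : w ∈ W.comap (MulAut.conj g').toMonoidHom := by
          refine (Subgroup.closure_le _).2 ?_ (hWgen hw)
          rintro y ⟨hy, hyq⟩
          exact hall _ ((Subgroup.mem_normalizer_iff.1 hg' y).1 (hWR hy)) (hyq.conj ρ g')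
        exact h1
      refine Subgroup.mem_normalizer_iff.2 fun w => ⟨hsub g hg w, fun hw => ?_⟩
      have := hsub g⁻¹ (inv_mem hg) _ hw
      rwa [show g⁻¹ * (g * w * g⁻¹) * g⁻¹⁻¹ = w by group] at this
    have h1 : ((T : Subgroup H) ⊓ Subgroup.normalizer (R' : Set H)).subgroupOf N = (R : Subgroup N) :=
      R.is_maximal' ((T.isPGroup'.to_le inf_le_left).comap_of_injective _ N.subtype_injective)
        fun r hr => by
          have hr' : (r : H) ∈ R' := Subgroup.mem_map_of_mem _ hr
          exact ⟨hT hr', Subgroup.le_normalizer hr'⟩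
    refine hnR ⟨⟨n, hle hn⟩, ?_, rfl⟩
    rw [← h1]; exact hn
  push Not at hall
  obtain ⟨x, hxR, hxq, hxW⟩ := hall
  have hcl : ∀ g ∈ N, ∀ c ∈ Subgroup.centralizer (W : Set H),
      g * c * g⁻¹ ∈ Subgroup.centralizer (W : Set H) := by
    intro g hg c hc w hw
    have h := hc (g⁻¹ * w * g) (by
      have := (Subgroup.mem_normalizer_iff.1 (inv_mem hg) w).1 hw
      rwa [inv_inv] at this)
    calc w * (g * c * g⁻¹) = g * ((g⁻¹ * w * g) * c) * g⁻¹ := by group
      _ = g * (c * (g⁻¹ * w * g)) * g⁻¹ := by rw [h]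
      _ = g * c * g⁻¹ * w := by group
  have hxN : x ∈ Subgroup.normalizer ((Subgroup.centralizer (W : Set H)) : Set H) :=
    Subgroup.mem_normalizer_iff.2 fun c => ⟨hcl x (hR'N hxR) c, fun hc => by
      have h := hcl x⁻¹ (inv_mem (hR'N hxR)) _ hc
      rwa [show x⁻¹ * (x * c * x⁻¹) * x⁻¹⁻¹ = c by group] at h⟩
  obtain ⟨z', hz'W, hz', hz'x⟩ := exists_centralised hp2 hexp ρ hinj hnr hxq hxN hzW hz
  set W' := W ⊔ Subgroup.zpowers x with hW'
  have hlt' : W < W' := lt_of_le_of_ne le_sup_left fun h =>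
    hxW (h ▸ Subgroup.mem_sup_right (Subgroup.mem_zpowers x))
  refine absurd (hmax W' ⟨hR'p.to_le (sup_le hWR (Subgroup.zpowers_le.2 hxR)), ?_,
    fun h => hWn (le_sup_left.trans h), z', ?_, hz'⟩)
    (not_le.2 (Set.ncard_lt_ncard (SetLike.coe_ssubset_coe.2 hlt') (Set.toFinite _)))
  · refine sup_le (hWgen.trans (Subgroup.closure_mono fun y hy => ⟨hlt'.le hy.1, hy.2⟩))
      (Subgroup.zpowers_le.2 (Subgroup.subset_closure
        ⟨Subgroup.mem_sup_right (Subgroup.mem_zpowers x), hxq⟩))
  · have hle : W' ≤ Subgroup.centralizer ({z'} : Set H) := by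
      refine sup_le (fun w hw => ?_) (Subgroup.zpowers_le.2 ?_)
      · rw [Subgroup.mem_centralizer_singleton_iff]; exact hz'W w hw
      · rw [Subgroup.mem_centralizer_singleton_iff]; exact hz'x.eq.symm
    intro w hw
    exact Subgroup.mem_centralizer_singleton_iff.1 (hle hw)

end Cfsg.Agent.TwoClosedZJ
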