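import Mathlib.GroupTheory.Nilpotent
import Cfsg.Agent.Lib.LocalEven.Basic
import Cfsg.Agent.Lib.Involutions.BaerSuzuki
import Cfsg.Agent.Lib.Transfer.Basic
import Cfsg.Agent.Lib.TwoClosedZJ.Pair

/-!
Real elements of prime power order: lifting from quotients, and their absence in groups with a
normal Sylow 2-subgroup.
-/

set_option autoImplicit false
set_option linter.style.haveILetI false

namespace Cfsg.Agent.TwoClosedZJ

open Cfsg.Agent

variable {G : Type*} [Group G] {H : Type*} [Group H] {q : ℕ}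

/-- Some non-trivial `q`-element of `M` is inverted by an element of `M`. -/
def RealIn (q : ℕ) (M : Subgroup G) : Prop :=
  ∃ x ∈ M, ∃ g ∈ M, x ≠ 1 ∧ (∃ k : ℕ, x ^ q ^ k = 1) ∧ g * x * g⁻¹ = x⁻¹

theorem inv_ne_self (hq : Odd q) {x : G} (hx : x ≠ 1) {k : ℕ} (hk : x ^ q ^ k = 1) : x⁻¹ ≠ x := by
  intro h
  have h2 : x * x = 1 := by nth_rw 1 [← h]; exact inv_mul_cancel x
  obtain ⟨m, hm⟩ := hq.pow (n := k)
  rw [hm, pow_succ, pow_mul, pow_two, h2, one_pow, one_mul] at hk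
  exact hx hk

theorem conj_odd_pow {g x : G} (h : g * x * g⁻¹ = x⁻¹) {n : ℕ} (hn : Odd n) :
    g ^ n * x * (g ^ n)⁻¹ = x⁻¹ := by
  obtain ⟨m, rfl⟩ := hn
  induction m with
  | zero => simpa using h
  | succ m ih =>
    calc g ^ (2 * (m + 1) + 1) * x * (g ^ (2 * (m + 1) + 1))⁻¹
        = g * (g * (g ^ (2 * m + 1) * x * (g ^ (2 * m + 1))⁻¹) * g⁻¹) * g⁻¹ := by
          rw [show 2 * (m + 1) + 1 = (2 * m + 1) + 1 + 1 by ring, pow_succ', pow_succ']; group
      _ = g * (g * x * g⁻¹)⁻¹ * g⁻¹ := by rw [ih]; group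
      _ = x⁻¹ := by rw [h, inv_inv, h]

theorem exists_two_part [Finite G] (g : G) : ∃ n : ℕ, Odd n ∧ IsTwoElem (g ^ n) := by
  obtain ⟨k, m, hm, he⟩ :=
    Nat.exists_eq_pow_mul_and_not_dvd (orderOf_pos g).ne' 2 (by norm_num)
  refine ⟨m, ?_, k, by rw [← pow_mul, mul_comm, ← he, pow_orderOf_eq_one]⟩
  rw [Nat.odd_iff]
  omega

/-- A 2-element moving an element of a normalized `q`-subgroup inverts a non-trivial one. -/
theorem realIn_of_normalizes {M R : Subgroup G} (hR : IsPGroup q R) (hRM : R ≤ M) :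
    ∀ (k : ℕ) (g : G), g ^ 2 ^ k = 1 → g ∈ M → (∀ r ∈ R, g * r * g⁻¹ ∈ R) →
      ∀ r ∈ R, g * r * g⁻¹ ≠ r → RealIn q M := by
  intro k
  induction k with
  | zero =>
    intro g hg _ _ r _ hne
    rw [pow_zero, pow_one] at hg
    subst hg
    simp at hne
  | succ k ih =>
    intro g hg hgM hn r hr hne
    by_cases h2 : g ^ 2 * r * (g ^ 2)⁻¹ = r
    swap
    · refine ih (g ^ 2) (by rw [← pow_mul, ← pow_succ']; exact hg) (M.pow_mem hgM 2)
        (fun y hy => ?_) r hr h2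
      rw [show g ^ 2 * y * (g ^ 2)⁻¹ = g * (g * y * g⁻¹) * g⁻¹ by rw [pow_two]; group]
      exact hn _ (hn y hy)
    set x := r⁻¹ * (g * r * g⁻¹) with hx
    have hxR : x ∈ R := R.mul_mem (R.inv_mem hr) (hn r hr)
    obtain ⟨j, hj⟩ := hR ⟨x, hxR⟩
    refine ⟨x, hRM hxR, g, hgM, fun h => hne ?_, ⟨j, congrArg Subtype.val hj⟩, ?_⟩
    · exact (inv_mul_eq_one.1 h).symm
    · calc g * x * g⁻¹ = (g * r * g⁻¹)⁻¹ * (g ^ 2 * r * (g ^ 2)⁻¹) := by
            rw [hx, pow_two]; group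
        _ = x⁻¹ := by rw [h2, hx]; group

variable [Finite G]

/-- A 2-element of the image comes from a 2-element among the powers of a preimage. -/
theorem two_lift (f : G →* H) {g : G} (hg : IsTwoElem (f g)) :
    ∃ u ∈ Subgroup.zpowers g, IsTwoElem u ∧ f u = f g := by
  haveI := Fact.mk Nat.prime_two
  obtain ⟨u, v, huv, hu, hv, ⟨k, hk⟩, hvo⟩ := PBasic.exists_pPart_mul (p := 2) g
  refine ⟨u, hu, ⟨k, by rw [← hk, pow_orderOf_eq_one]⟩, ?_⟩
  have hfv : f v = 1 := by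
    obtain ⟨j, hj⟩ := hg
    have hd1 : orderOf (f v) ∣ orderOf v := orderOf_map_dvd f v
    have hd2 : orderOf (f v) ∣ 2 ^ j := by
      obtain ⟨i, hi⟩ := Subgroup.mem_zpowers_iff.1 hv
      refine orderOf_dvd_of_pow_eq_one ?_
      rw [← hi, map_zpow, ← zpow_natCast, zpow_comm, zpow_natCast, hj, one_zpow]
    exact orderOf_eq_one_iff.1
      (Nat.eq_one_of_dvd_coprimes (Nat.Coprime.pow_right j hvo) hd1 hd2)
  rw [← huv, map_mul, hfv, mul_one]

/-- Frattini: a 2-element normalizing a `q`-subgroup of an image lifts to one normalizing a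
`q`-subgroup mapped onto it. -/
theorem exists_lift [hq : Fact q.Prime] (f : G →* H) (hf : Function.Surjective f)
    {R : Subgroup H} (hR : IsPGroup q R) {t : H} (ht : IsTwoElem t)
    (htR : t ∈ Subgroup.normalizer (R : Set H)) :
    ∃ (g : G) (P : Subgroup G), IsTwoElem g ∧ f g = t ∧ IsPGroup q P ∧ P.map f = R ∧
      ∀ y ∈ P, g * y * g⁻¹ ∈ P := by
  set E := R.comap f with hE
  set L := Subgroup.normalizer (E : Set G) with hL
  haveI : (E.subgroupOf L).Normal := Subgroup.normal_subgroupOf_of_le_normalizer le_rfl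
  obtain ⟨S⟩ : Nonempty (Sylow q (E.subgroupOf L)) := inferInstance
  set P := ((S : Subgroup (E.subgroupOf L)).map (E.subgroupOf L).subtype).map L.subtype with hP
  have hPE : P ≤ E := by
    rintro _ ⟨_, ⟨y, -, rfl⟩, rfl⟩
    exact y.2
  have hPR : P.map f = R := by
    let φ : E.subgroupOf L →* R :=
      ((f.comp L.subtype).comp (E.subgroupOf L).subtype).codRestrict R fun y => y.2
    have hφ : Function.Surjective φ := by
      rintro ⟨r, hr⟩
      obtain ⟨e, rfl⟩ := hf r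
      exact ⟨⟨⟨e, Subgroup.le_normalizer (show e ∈ E from hr)⟩, hr⟩, rfl⟩
    have h1 : (S : Subgroup (E.subgroupOf L)).map φ = ⊤ := by
      rw [← Sylow.coe_mapSurjective hφ S]
      exact ((S.mapSurjective hφ).is_maximal' (hR.to_subgroup ⊤ |>.to_le le_rfl) le_top).symm
    refine le_antisymm (Subgroup.map_le_iff_le_comap.2 hPE) fun r hr => ?_
    obtain ⟨y, hy, e⟩ : (⟨r, hr⟩ : R) ∈ (S : Subgroup _).map φ := h1 ▸ Subgroup.mem_top _
    exact ⟨_, Subgroup.mem_map_of_mem _ (Subgroup.mem_map_of_mem _ hy), congrArg Subtype.val e⟩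
  obtain ⟨t₀, rfl⟩ := hf t
  have ht₀ : t₀ ∈ L := Subgroup.mem_normalizer_iff.2 fun y => by
    show f y ∈ R ↔ f (t₀ * y * t₀⁻¹) ∈ R
    rw [map_mul, map_mul, map_inv]
    exact Subgroup.mem_normalizer_iff.1 htR _
  have hfr := Sylow.normalizer_sup_eq_top S
  have hm : (⟨t₀, ht₀⟩ : L) ∈ Subgroup.normalizer
      (((S : Subgroup (E.subgroupOf L)).map (E.subgroupOf L).subtype : Subgroup L) : Set L) ⊔
      E.subgroupOf L := hfr ▸ Subgroup.mem_top _
  rw [← SetLike.mem_coe, Subgroup.mul_normal] at hm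
  obtain ⟨n, hn, e, he, hne⟩ := Set.mem_mul.1 hm
  obtain ⟨u, hu, hfu⟩ : f (e : G) ∈ P.map f := hPR ▸ he
  have hnP : ∀ y ∈ P, (n : G) * y * (n : G)⁻¹ ∈ P := by
    rintro _ ⟨y, hy, rfl⟩
    exact ⟨n * y * n⁻¹, (Subgroup.mem_normalizer_iff.1 hn y).1 hy, rfl⟩
  have hfn : f ((n : G) * u) = f t₀ := by
    rw [map_mul, hfu, ← map_mul]
    exact congrArg (fun z : L => f z) hne
  set N := Subgroup.normalizer (P : Set G) with hN
  have hnN : (n : G) ∈ N := by
    haveI : Finite P := inferInstance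
    refine Subgroup.mem_normalizer_iff.2 fun y => ⟨hnP y, fun hy => ?_⟩
    obtain ⟨z, hz⟩ := hy
    refine ⟨n⁻¹ * z * n, (Subgroup.mem_normalizer_iff.1 hn _).2 (by
      rw [show n * (n⁻¹ * z * n) * n⁻¹ = z by group]; exact hz.1), ?_⟩
    rw [map_mul, map_mul, map_inv, hz.2]
    show (n : G)⁻¹ * ((n : G) * y * (n : G)⁻¹) * (n : G) = y
    group
  obtain ⟨g, hg, hg2, hfg⟩ := two_lift f (g := (n : G) * u) (hfn.symm ▸ ht)
  have hgN : g ∈ N := (Subgroup.zpowers_le.2 (N.mul_mem hnN (Subgroup.le_normalizer hu))) hg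
  exact ⟨g, P, hg2, hfg.trans hfn, (S.isPGroup'.map _).map _, hPR,
    fun y hy => (Subgroup.mem_normalizer_iff.1 hgN y).1 hy⟩

/-- A group with a normal Sylow 2-subgroup has no element of odd prime power order that is real. -/
theorem not_realIn_of_normal (hq : Odd q) {M : Subgroup G} {P : Sylow 2 M}
    (hP : (P : Subgroup M).Normal) : ¬ RealIn q M := by
  haveI := Fact.mk Nat.prime_two
  haveI := hP
  rintro ⟨x, hx, g, hg, hx1, ⟨k, hk⟩, hinv⟩
  set f := QuotientGroup.mk' (P : Subgroup M) with hf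
  set x' := f ⟨x, hx⟩ with hx'
  set g' := f ⟨g, hg⟩ with hg'
  have h1 : g' * x' * g'⁻¹ = x'⁻¹ := by
    rw [hx', hg', ← map_inv, ← map_mul, ← map_mul, ← map_inv]
    exact congrArg f (Subtype.ext hinv)
  have hodd : Odd (Nat.card (M ⧸ (P : Subgroup M))) := by
    rw [← Subgroup.index_eq_card, Nat.odd_iff, ← Nat.two_dvd_ne_zero]
    exact P.not_dvd_index
  have hodd' : Odd (orderOf g') := hodd.of_dvd_nat (orderOf_dvd_natCard g')
  have h2 : x'⁻¹ = x' := by
    have := conj_odd_pow h1 hodd'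
    simpa [pow_orderOf_eq_one] using this.symm
  have hk' : x' ^ q ^ k = 1 := by
    rw [hx', ← map_pow, show (⟨x, hx⟩ : M) ^ q ^ k = 1 from Subtype.ext hk, map_one]
  by_cases hx'1 : x' = 1
  · have hxP : (⟨x, hx⟩ : M) ∈ (P : Subgroup M) := (QuotientGroup.eq_one_iff _).1 hx'1
    obtain ⟨j, hj⟩ := P.isPGroup' ⟨_, hxP⟩
    have h3 : x ^ 2 ^ j = 1 := congrArg (fun y : (P : Subgroup M) => ((y : M) : G)) hj
    refine hx1 (orderOf_eq_one_iff.1 (Nat.eq_one_of_dvd_coprimes ?_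
      (orderOf_dvd_of_pow_eq_one h3) (orderOf_dvd_of_pow_eq_one hk)))
    exact Nat.Coprime.pow _ _ (Nat.coprime_two_left.2 hq)
  · exact inv_ne_self hq hx'1 hk' h2

/-- Without a normal Sylow 2-subgroup some element of odd prime order is real. -/
theorem exists_realIn (h : ∃ P : Sylow 2 G, ¬ (P : Subgroup G).Normal) :
    ∃ r : ℕ, r.Prime ∧ r ≠ 2 ∧ RealIn r (⊤ : Subgroup G) := by
  haveI := Fact.mk Nat.prime_two
  obtain ⟨P, hP⟩ := h
  set O := Cfsg.pCore 2 G with hO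
  haveI : O.Normal := Cfsg.pCore_normal 2 G
  set f := QuotientGroup.mk' O with hf
  have h2 : 2 ∣ Nat.card (G ⧸ O) := by
    by_contra hnd
    refine hP ?_
    have hle : (P : Subgroup G) ≤ O := fun y hy => by
      rw [← QuotientGroup.eq_one_iff]
      obtain ⟨j, hj⟩ := P.isPGroup' ⟨y, hy⟩
      refine orderOf_eq_one_iff.1 (Nat.eq_one_of_dvd_coprimes
        (Nat.Coprime.pow_left j ((Nat.prime_two.coprime_iff_not_dvd).2 hnd))
        (orderOf_dvd_of_pow_eq_one (x := (QuotientGroup.mk y : G ⧸ O)) ?_) (orderOf_dvd_natCard _))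
      rw [← QuotientGroup.mk_pow, show y ^ 2 ^ j = 1 from congrArg Subtype.val hj, QuotientGroup.mk_one]
    rw [le_antisymm hle (LEBasic.pCore_le_sylow P)]
    infer_instance
  obtain ⟨t, ht⟩ := exists_prime_orderOf_dvd_card' (G := G ⧸ O) 2 h2
  have htt : t * t = 1 := by rw [← pow_two, ← ht, pow_orderOf_eq_one]
  obtain ⟨c, hc⟩ : ∃ c : G ⧸ O,
      ¬ IsPGroup 2 ↥(Subgroup.zpowers t ⊔ (Subgroup.zpowers t).map (MulAut.conj c).toMonoidHom) := by
    by_contra hno
    push Not at hno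
    obtain ⟨N, hN, hNp, htN⟩ := BaerSuzuki.baerSuzuki (Subgroup.zpowers t)
      (IsPGroup.of_card (n := 1) (by rw [Nat.card_zpowers, ht, pow_one])) hno
    have := LEBasic.le_pCore hN hNp (htN (Subgroup.mem_zpowers t))
    rw [LEBasic.pCore_quotient_pCore, Subgroup.mem_bot] at this
    rw [this, orderOf_one] at ht
    omega
  set t' := c * t * c⁻¹ with ht'
  set u := t * t' with hu
  have htu : t * u * t⁻¹ = u⁻¹ := by
    have ht'i : t'⁻¹ = t' := inv_eq_of_mul_eq_one_right (by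
      rw [ht', show c * t * c⁻¹ * (c * t * c⁻¹) = c * (t * t) * c⁻¹ by group, htt, mul_one,
        mul_inv_cancel])
    have hti : t⁻¹ = t := inv_eq_of_mul_eq_one_right htt
    rw [hu, mul_inv_rev, ht'i, hti, ← mul_assoc t t t', htt, one_mul]
  have hnotp : ¬ ∃ j, orderOf u = 2 ^ j := by
    rintro ⟨j, hj⟩
    apply hc
    have hle : Subgroup.zpowers t ⊔ (Subgroup.zpowers t).map (MulAut.conj c).toMonoidHom ≤
        Subgroup.zpowers u ⊔ Subgroup.zpowers t := by
      refine sup_le le_sup_right ?_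
      rw [MonoidHom.map_zpowers, Subgroup.zpowers_le]
      show c * t * c⁻¹ ∈ _
      rw [← ht', show t' = t⁻¹ * u by rw [hu]; group]
      exact Subgroup.mul_mem _ (inv_mem (Subgroup.mem_sup_right (Subgroup.mem_zpowers t)))
        (Subgroup.mem_sup_left (Subgroup.mem_zpowers u))
    refine IsPGroup.to_le ?_ hle
    refine IsPGroup.to_sup_of_normal_left' (IsPGroup.of_card (n := j) (by rw [Nat.card_zpowers, hj]))
      (IsPGroup.of_card (n := 1) (by rw [Nat.card_zpowers, ht, pow_one])) ?_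
    rw [Subgroup.zpowers_le, Subgroup.mem_normalizer_iff_map_conj_eq, MonoidHom.map_zpowers]
    show Subgroup.zpowers (t * u * t⁻¹) = _
    rw [htu, Subgroup.zpowers_inv]
  obtain ⟨r, hr, hru, hr2⟩ : ∃ r, r.Prime ∧ r ∣ orderOf u ∧ r ≠ 2 := by
    by_contra hno
    push Not at hno
    exact hnotp ⟨_, Nat.eq_prime_pow_of_unique_prime_dvd (orderOf_pos u).ne'
      fun {d} hd hdu => hno d hd hdu⟩
  haveI := Fact.mk hr
  set x := u ^ (orderOf u / r) with hx
  have hxo : orderOf x = r := orderOf_pow_orderOf_div (orderOf_pos u).ne' hru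
  have htx : t * x * t⁻¹ = x⁻¹ := by rw [hx, ← conj_pow, htu, inv_pow]
  have hxk : x ^ r ^ 1 = 1 := by rw [pow_one, ← hxo, pow_orderOf_eq_one]
  have hx1 : x ≠ 1 := fun h => hr.ne_one (by rw [← hxo, h, orderOf_one])
  obtain ⟨g, Q, ⟨k, hg⟩, hfg, hQ, hQR, hgQ⟩ := exists_lift f (QuotientGroup.mk'_surjective O)
    (R := Subgroup.zpowers x) (IsPGroup.of_card (n := 1) (by rw [Nat.card_zpowers, hxo, pow_one]))
    (t := t) ⟨1, by rw [pow_one, ← ht, pow_orderOf_eq_one]⟩ (by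
      rw [Subgroup.mem_normalizer_iff_map_conj_eq, MonoidHom.map_zpowers]
      show Subgroup.zpowers (t * x * t⁻¹) = _
      rw [htx, Subgroup.zpowers_inv])
  obtain ⟨y, hy, hyx⟩ : x ∈ Q.map f := hQR.symm ▸ Subgroup.mem_zpowers x
  refine ⟨r, hr, hr2, realIn_of_normalizes hQ le_top k g hg trivial hgQ y hy fun hcomm => ?_⟩
  have h := congrArg f hcomm
  rw [map_mul, map_mul, map_inv, hfg, hyx, htx] at h
  exact inv_ne_self (hr.odd_of_ne_two hr2) hx1 hxk h

end Cfsg.Agent.TwoClosedZJ
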