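import Mathlib.GroupTheory.Nilpotent
import Cfsg.Agent.Lib.PLocal.ZJ
import Cfsg.Agent.Lib.PLocal.ZJNPC
import Cfsg.Agent.Lib.TwoClosedZJ.Real

/-!
For an odd prime `q`, an element of `q`-power order that is real forces some element of a Sylow
`q`-subgroup `T` to be inverted in the normalizer of `Z(J(T))`.
-/

set_option autoImplicit false
set_option linter.style.haveILetI false

open scoped commutatorElement

namespace Cfsg.Agent.TwoClosedZJ

open Cfsg.Agent

universe u

variable {G : Type u} [Group G] {q : ℕ}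

/-- Some non-trivial element of a Sylow `q`-subgroup `T` is inverted in `N(Z(J(T)))`. -/
def Witness (q : ℕ) (G : Type u) [Group G] : Prop :=
  ∃ T : Sylow q G, ∃ x ∈ (T : Subgroup G), x ≠ 1 ∧
    ∃ g ∈ Subgroup.normalizer (ZJ.zJ q False (T : Subgroup G) : Set G), g * x * g⁻¹ = x⁻¹

variable [Finite G] [hq : Fact q.Prime] (hq2 : q ≠ 2)

/-- A witness of a subgroup, seen in the whole group. -/
theorem witness_map {M : Subgroup G} (h : Witness q M) :
    ∃ U : Subgroup G, U ≤ M ∧ Nat.card U = q ^ (Nat.card M).factorization q ∧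
      ∃ x ∈ U, x ≠ 1 ∧ ∃ g ∈ M, g ∈ Subgroup.normalizer (ZJ.zJ q False U : Set G) ∧
        g * x * g⁻¹ = x⁻¹ := by
  obtain ⟨T, x, hx, hx1, g, hg, hgx⟩ := h
  refine ⟨(T : Subgroup M).map M.subtype, Subgroup.map_subtype_le _, ?_, x,
    Subgroup.mem_map_of_mem _ hx, fun h => hx1 (Subtype.ext h), g, g.2, ?_,
    congrArg Subtype.val hgx⟩
  · rw [Subgroup.card_map_of_injective M.subtype_injective, T.card_eq_multiplicity]
  · rw [← ZJ.zJ_map M.subtype M.subtype_injective.injOn]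
    exact Subgroup.le_normalizer_map M.subtype (Subgroup.mem_map_of_mem _ hg)

variable (IH : ∀ (X : Type u) [Group X] [Finite X], Nat.card X < Nat.card G →
  RealIn q (⊤ : Subgroup X) → Witness q X)

include IH

theorem witness_sub {M : Subgroup G} (hM : M ≠ ⊤) (h : RealIn q M) :
    ∃ U : Subgroup G, U ≤ M ∧ Nat.card U = q ^ (Nat.card M).factorization q ∧
      ∃ x ∈ U, x ≠ 1 ∧ ∃ g ∈ M, g ∈ Subgroup.normalizer (ZJ.zJ q False U : Set G) ∧
        g * x * g⁻¹ = x⁻¹ := by
  refine witness_map (IH M ?_ ?_)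
  · refine lt_of_le_of_ne (Subgroup.card_le_card_group M) fun h => hM ?_
    exact Subgroup.eq_top_of_card_eq M h
  · obtain ⟨x, hx, g, hg, hx1, ⟨k, hk⟩, hgx⟩ := h
    exact ⟨⟨x, hx⟩, trivial, ⟨g, hg⟩, trivial, fun h => hx1 (congrArg Subtype.val h),
      ⟨k, Subtype.ext hk⟩, Subtype.ext hgx⟩

/-- A proper overgroup of a Sylow subgroup with a real element yields a witness. -/
theorem witness_of_over {M : Subgroup G} (T : Sylow q G) (hT : (T : Subgroup G) ≤ M) (hM : M ≠ ⊤)
    (h : RealIn q M) : Witness q G := by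
  obtain ⟨U, hUM, hU, x, hx, hx1, g, -, hg, hgx⟩ := witness_sub IH hM h
  have hcard : Nat.card U = q ^ (Nat.card G).factorization q := by
    refine Nat.dvd_antisymm ?_ ?_
    · rw [hU]
      exact pow_dvd_pow q ((Nat.factorization_le_iff_dvd Nat.card_pos.ne' Nat.card_pos.ne').2
        (Subgroup.card_subgroup_dvd_card M) q)
    · rw [hU, ← T.card_eq_multiplicity]
      obtain ⟨j, hj⟩ := IsPGroup.iff_card.1 T.isPGroup'
      rw [hj]
      exact pow_dvd_pow q ((Nat.Prime.pow_dvd_iff_le_factorization hq.out Nat.card_pos.ne').1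
        (hj ▸ Subgroup.card_dvd_of_le hT))
  exact ⟨Sylow.ofCard U hcard, x, hx, hx1, g, hg, hgx⟩

include hq2

/-- The case of a trivial `q`-core. -/
theorem witness_of_pCore_eq_bot (hreal : RealIn q (⊤ : Subgroup G))
    (hQ : Cfsg.pCore q G = ⊥) : Witness q G := by
  obtain ⟨x, -, g, -, hx1, ⟨k, hk⟩, hgx⟩ := hreal
  set H := Subgroup.closure ({x, g} : Set G) with hH
  have hxH : x ∈ H := Subgroup.subset_closure (Or.inl rfl)
  have hgH : g ∈ H := Subgroup.subset_closure (Or.inr rfl)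
  have hHtop : H ≠ ⊤ := by
    intro htop
    have hn : (Subgroup.zpowers x).Normal := by
      rw [← Subgroup.normalizer_eq_top_iff, eq_top_iff, ← htop, hH, Subgroup.closure_le]
      rintro y (rfl | rfl)
      · exact Subgroup.le_normalizer (Subgroup.mem_zpowers y)
      · rw [SetLike.mem_coe, Subgroup.mem_normalizer_iff_map_conj_eq, MonoidHom.map_zpowers]
        show Subgroup.zpowers (y * x * y⁻¹) = _
        rw [hgx, Subgroup.zpowers_inv]
    obtain ⟨i, -, hi⟩ := (Nat.dvd_prime_pow hq.out).1 (orderOf_dvd_of_pow_eq_one hk)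
    have h1 := LEBasic.le_pCore hn (IsPGroup.of_card (p := q) (n := i) (by
      rw [Nat.card_zpowers, hi])) (Subgroup.mem_zpowers x)
    rw [hQ, Subgroup.mem_bot] at h1
    exact hx1 h1
  obtain ⟨M, ⟨hM, hMreal⟩, hmax⟩ := Set.exists_max_image
    {M : Subgroup G | M ≠ ⊤ ∧ RealIn q M} (fun M => (Nat.card M).factorization q) (Set.toFinite _)
    ⟨H, hHtop, x, hxH, g, hgH, hx1, ⟨k, hk⟩, hgx⟩
  obtain ⟨U, hUM, hU, y, hy, hy1, g', -, hg', hgy⟩ := witness_sub IH hM hMreal
  have hUp : IsPGroup q U := IsPGroup.of_card hU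
  obtain ⟨T, hT⟩ := hUp.exists_le_sylow
  rcases hT.lt_or_eq with hlt | heq
  swap
  · exact ⟨T, y, heq ▸ hy, hy1, g', heq ▸ hg', hgy⟩
  exfalso
  set Z := ZJ.zJ q False U with hZ
  set L := Subgroup.normalizer (Z : Set G) with hL
  have hyL : y ∈ L := ZJ.le_normalizer_zJ U hy
  obtain ⟨j, hj⟩ := hUp ⟨y, hy⟩
  by_cases hLtop : L = ⊤
  · have hn : Z.Normal := Subgroup.normalizer_eq_top_iff.1 hLtop
    have h1 := LEBasic.le_pCore hn (hUp.to_le (ZJ.zJ_le U))
    rw [hQ, le_bot_iff] at h1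
    have h2 : ZJ.zCore q False U = ⊥ := by rw [ZJ.zCore_eq_zJ not_false]; exact h1
    exact ZJ.zCore_ne_bot hUp (fun h => hy1 (Subgroup.mem_bot.1 (h ▸ hy))) h2
  have hlt' := Fusion.lt_inf_normalizer T.isPGroup'.isNilpotent hlt
  set U' := (T : Subgroup G) ⊓ Subgroup.normalizer (U : Set G) with hU'
  have hU'L : U' ≤ L := inf_le_right.trans (ZJ.normalizer_le_normalizer_zJ U)
  obtain ⟨a, ha⟩ := IsPGroup.iff_card.1 (T.isPGroup'.to_le (inf_le_left : U' ≤ _))
  have h1 := hmax L ⟨hLtop, y, hyL, g', hg', hy1, ⟨j, congrArg Subtype.val hj⟩, hgy⟩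
  have h2 : a ≤ (Nat.card L).factorization q :=
    (Nat.Prime.pow_dvd_iff_le_factorization hq.out Nat.card_pos.ne').1
      (ha ▸ Subgroup.card_dvd_of_le hU'L)
  have h3 : Nat.card U < Nat.card U' :=
    Set.ncard_lt_ncard (SetLike.coe_ssubset_coe.2 hlt') (Set.toFinite _)
  rw [hU, ha] at h3
  exact absurd ((Nat.pow_lt_pow_iff_right hq.out.one_lt).1 h3) (by omega)

/-- The main step. -/
theorem witness_step (hreal : RealIn q (⊤ : Subgroup G)) : Witness q G := by
  by_cases hQ : Cfsg.pCore q G = ⊥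
  · exact witness_of_pCore_eq_bot hq2 IH hreal hQ
  by_contra hno
  have hodd : Odd q := hq.out.odd_of_ne_two hq2
  set Q := Cfsg.pCore q G with hQdef
  haveI : Q.Normal := Cfsg.pCore_normal q G
  have hQp : IsPGroup q Q := LEBasic.pCore_isPGroup
  have hb : ∀ (T : Sylow q G) (M : Subgroup G), (T : Subgroup G) ≤ M → M ≠ ⊤ → ¬ RealIn q M :=
    fun T M hT hM h => hno (witness_of_over IH T hT hM h)
  have htwo : ∀ (T : Sylow q G) (M : Subgroup G), (T : Subgroup G) ≤ M → M ≠ ⊤ →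
      ∀ g ∈ M, IsTwoElem g → g ∈ Subgroup.centralizer (Q : Set G) := by
    intro T M hT hM g hg hg2 y hy
    by_contra hne
    obtain ⟨k, hk⟩ := hg2
    exact hb T M hT hM (realIn_of_normalizes hQp ((LEBasic.pCore_le_sylow T).trans hT) k g hk hg
      (fun r hr => ‹Q.Normal›.conj_mem r hr g) y hy fun h => hne (mul_inv_eq_iff_eq_mul.1 h).symm)
  set π := QuotientGroup.mk' Q with hπ
  have hπs : Function.Surjective π := QuotientGroup.mk'_surjective Q
  have hcardQ : Nat.card (G ⧸ Q) < Nat.card G := by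
    rw [Subgroup.card_eq_card_quotient_mul_card_subgroup Q]
    exact lt_mul_of_one_lt_right Nat.card_pos ((Subgroup.one_lt_card_iff_ne_bot Q).2 hQ)
  have hGbar : ¬ RealIn q (⊤ : Subgroup (G ⧸ Q)) := by
    intro hr
    obtain ⟨S, y, hy, hy1, g₀, hg₀, hgy₀⟩ := IH (G ⧸ Q) hcardQ hr
    obtain ⟨n, hn, hg2⟩ := exists_two_part g₀
    set g := g₀ ^ n with hgdef
    have hgy : g * y * g⁻¹ = y⁻¹ := conj_odd_pow hgy₀ hn
    set Z := ZJ.zJ q False (S : Subgroup (G ⧸ Q)) with hZ
    set L := Subgroup.normalizer (Z : Set (G ⧸ Q)) with hL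
    have hgL : g ∈ L := L.pow_mem hg₀ n
    obtain ⟨j, hj⟩ := S.isPGroup' ⟨y, hy⟩
    have hjy : y ^ q ^ j = 1 := congrArg Subtype.val hj
    let T : Sylow q G := S.comapOfKerIsPGroup π (by rw [hπ, QuotientGroup.ker_mk']; exact hQp)
      (by rw [MonoidHom.range_eq_top.2 hπs]; exact le_top)
    have hTL : (T : Subgroup G) ≤ L.comap π := fun x hx => ZJ.le_normalizer_zJ _ hx
    have hLtop : L.comap π ≠ ⊤ := by
      intro h
      have hL' : L = ⊤ := by
        rw [← Subgroup.map_comap_eq_self_of_surjective hπs L, h]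
        exact Subgroup.map_top_of_surjective π hπs
      have h1 := LEBasic.le_pCore (Subgroup.normalizer_eq_top_iff.1 hL')
        (S.isPGroup'.to_le (ZJ.zJ_le (S : Subgroup (G ⧸ Q))))
      rw [LEBasic.pCore_quotient_pCore, le_bot_iff] at h1
      refine ZJ.zCore_ne_bot (p := q) (e := False) S.isPGroup' (fun h => hy1 ?_)
        (by rw [ZJ.zCore_eq_zJ not_false]; exact h1)
      rw [h] at hy
      exact Subgroup.mem_bot.1 hy
    obtain ⟨y₀, rfl⟩ := hπs y
    obtain ⟨g₁, hg₁⟩ := hπs g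
    obtain ⟨g', hg', hg'2, hfg⟩ := two_lift π (g := g₁) (hg₁.symm ▸ hg2)
    rw [hg₁] at hfg
    refine hb T _ hTL hLtop ?_
    obtain ⟨k, hk⟩ := hg'2
    obtain ⟨i, -, hi⟩ := (Nat.dvd_prime_pow hq.out).1 (orderOf_dvd_of_pow_eq_one hjy)
    refine realIn_of_normalizes (R := (Subgroup.zpowers (π y₀)).comap π)
      ((IsPGroup.of_card (p := q) (n := i) (by rw [Nat.card_zpowers, hi])).comap_of_ker_isPGroup π
        (by rw [hπ, QuotientGroup.ker_mk']; exact hQp))
      (Subgroup.comap_mono (Subgroup.zpowers_le.2 (ZJ.le_normalizer_zJ _ hy))) k g' hk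
      (by rw [Subgroup.mem_comap, hfg]; exact hgL) ?_ y₀ (Subgroup.mem_zpowers (π y₀)) ?_
    · intro r hr
      rw [Subgroup.mem_comap] at hr ⊢
      obtain ⟨m, hm⟩ := Subgroup.mem_zpowers_iff.1 hr
      rw [map_mul, map_mul, map_inv, hfg, ← hm, ← conj_zpow, hgy, inv_zpow']
      exact Subgroup.zpow_mem _ (Subgroup.mem_zpowers _) _
    · intro h
      have h1 := congrArg π h
      rw [map_mul, map_mul, map_inv, hfg, hgy] at h1
      exact inv_ne_self hodd hy1 hjy h1
  -- some 2-element does not centralize `Q`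
  have hmoves : ¬ ∀ g : G, IsTwoElem g → g ∈ Subgroup.centralizer (Q : Set G) := by
    intro hall
    obtain ⟨x, -, g₀, -, hx1, ⟨k, hk⟩, hgx₀⟩ := hreal
    obtain ⟨n, hn, hg2⟩ := exists_two_part g₀
    have hgx := conj_odd_pow hgx₀ hn
    by_cases hxQ : x ∈ Q
    · refine inv_ne_self hodd hx1 hk ?_
      rw [← hgx, ← hall _ hg2 x hxQ, mul_inv_cancel_right]
    · exact hGbar ⟨π x, trivial, π (g₀ ^ n), trivial, fun h => hxQ ((QuotientGroup.eq_one_iff x).1 h),
        ⟨k, by rw [← map_pow, hk, map_one]⟩, by rw [← map_inv, ← map_mul, ← map_mul, hgx, map_inv]⟩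
  obtain ⟨T₀⟩ : Nonempty (Sylow q G) := inferInstance
  by_cases hquad : ZJ.IsQuad q G
  · -- the stable case: `Z(J(T))` would be normal
    obtain ⟨x, -, g₀, -, hx1, ⟨k, hk⟩, hgx₀⟩ := hreal
    obtain ⟨i, -, hi⟩ := (Nat.dvd_prime_pow hq.out).1 (orderOf_dvd_of_pow_eq_one hk)
    obtain ⟨T, hxT⟩ := (IsPGroup.of_card (p := q) (n := i) (G := Subgroup.zpowers x) (by
      rw [Nat.card_zpowers, hi])).exists_le_sylow
    set Z := ZJ.zJ q False (T : Subgroup G) with hZ
    have hnn : ¬ Z.Normal := fun h => hno ⟨T, x, hxT (Subgroup.mem_zpowers x), hx1, g₀,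
      by rw [Subgroup.normalizer_eq_top]; trivial, hgx₀⟩
    have hZQ : ¬ Z ≤ Q := by
      intro h
      refine hnn ?_
      have hh := ZJ.zCore_inf_normal hq2 hquad T False Q hQp
      rwa [ZJ.zCore_eq_zJ not_false, inf_eq_left.2 h] at hh
    set C := Subgroup.centralizer (Q : Set G) with hC
    set St := ZJ.stab q Q with hSt
    set D := (T : Subgroup G) ⊓ St with hD
    have hZD : Z ≤ D := le_inf (ZJ.zJ_le _) (ZJ.mem_stab hquad hQp (T.isPGroup'.to_le (ZJ.zJ_le _))
      (fun a ha b hb => ZJ.zJ_comm ha hb) ((LEBasic.pCore_le_sylow T).trans (ZJ.le_normalizer_zJ _)))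
    set M := Subgroup.normalizer (D : Set G) with hM
    have hTM : (T : Subgroup G) ≤ M := fun t ht => Subgroup.mem_normalizer_iff.2 fun y => by
      constructor
      · rintro ⟨h1, h2⟩
        exact ⟨(T : Subgroup G).mul_mem ((T : Subgroup G).mul_mem ht h1) ((T : Subgroup G).inv_mem ht), (inferInstance : St.Normal).conj_mem y h2 t⟩
      · rintro ⟨h1, h2⟩
        have e1 := (T : Subgroup G).mul_mem ((T : Subgroup G).mul_mem ((T : Subgroup G).inv_mem ht) h1) ht
        have e2 := (inferInstance : St.Normal).conj_mem _ h2 t⁻¹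
        rw [show t⁻¹ * (t * y * t⁻¹) * t = y by group] at e1
        rw [show t⁻¹ * (t * y * t⁻¹) * t⁻¹⁻¹ = y by group] at e2
        exact ⟨e1, e2⟩
    have hMtop : M ≠ ⊤ := fun h =>
      hZQ (hZD.trans (LEBasic.le_pCore (Subgroup.normalizer_eq_top_iff.1 h) (T.isPGroup'.to_le inf_le_left)))
    haveI : C.Normal := ⟨fun c hc g y hy => by
      have h := hc (g⁻¹ * y * g) (by simpa using ‹Q.Normal›.conj_mem y hy g⁻¹)
      calc y * (g * c * g⁻¹) = g * ((g⁻¹ * y * g) * c) * g⁻¹ := by group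
        _ = g * (c * (g⁻¹ * y * g)) * g⁻¹ := by rw [h]
        _ = g * c * g⁻¹ * y := by group⟩
    have hStle : St ≤ D ⊔ C := by
      set f := QuotientGroup.mk' C with hf
      intro s hs
      obtain ⟨t, ht, hts⟩ : f s ∈ ((T : Subgroup G)).map f := by
        have h1 : Cfsg.pCore q (G ⧸ C) ≤ (T.mapSurjective (QuotientGroup.mk'_surjective C) : Subgroup (G ⧸ C)) :=
          LEBasic.pCore_le_sylow _
        rw [Sylow.coe_mapSurjective] at h1
        exact h1 hs
      have hc : t⁻¹ * s ∈ C := QuotientGroup.eq.1 hts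
      have htS : t ∈ St := by
        show f t ∈ Cfsg.pCore q (G ⧸ C)
        rw [hts]; exact hs
      rw [show s = t * (t⁻¹ * s) by group]
      exact Subgroup.mul_mem_sup ⟨ht, htS⟩ hc
    have hfr : M ⊔ C = ⊤ := by
      obtain ⟨TS, hTS⟩ := PBasic.exists_sylow_subgroupOf T St
      have h1 := Sylow.normalizer_sup_eq_top TS
      rw [hTS, Subgroup.subgroupOf_map_subtype] at h1
      exact eq_top_iff.2 (h1.ge.trans (sup_le le_sup_left
        (hStle.trans (sup_le_sup_right Subgroup.le_normalizer C))))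
    refine hmoves fun g hg2 => ?_
    have hg : g ∈ M ⊔ C := hfr ▸ Subgroup.mem_top g
    rw [← SetLike.mem_coe, Subgroup.mul_normal] at hg
    obtain ⟨n, hn, c, hc, rfl⟩ := Set.mem_mul.1 hg
    set f := QuotientGroup.mk' C with hf
    have hfn : f (n * c) = f n := by
      rw [map_mul, show f c = 1 from (QuotientGroup.eq_one_iff c).2 hc, mul_one]
    obtain ⟨u, hu, hu2, hfu⟩ := two_lift f (g := n) (by
      obtain ⟨k, hk⟩ := hg2
      exact ⟨k, by rw [← hfn, ← map_pow, hk, map_one]⟩)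
    have huC := htwo T M hTM hMtop u ((Subgroup.zpowers_le.2 hn) hu) hu2
    rw [← QuotientGroup.eq_one_iff]
    show f (n * c) = 1
    rw [hfn, ← hfu]
    exact (QuotientGroup.eq_one_iff u).2 huC
  -- the unstable case: a chief factor with a quadratic element outside the core
  simp only [ZJ.IsQuad, not_forall] at hquad
  obtain ⟨B, hBn, a, hB, -, hqa0, hna⟩ := hquad
  have hnaB : a ∉ ZJ.stab q B := hna
  obtain ⟨Y, ⟨hYn, hYB, hYa⟩, hYmin⟩ := Set.exists_min_image
    {Y : Subgroup G | ∃ _ : Y.Normal, Y ≤ B ∧ a ∉ ZJ.stab q Y} (fun Y => Nat.card Y)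
    (Set.toFinite _) ⟨B, hBn, le_rfl, hnaB⟩
  haveI := hYn
  have hY1 : Y ≠ ⊥ := by
    intro h
    refine hYa ?_
    rw [ZJ.stab, Subgroup.mem_comap]
    have h1 : QuotientGroup.mk' (Subgroup.centralizer (Y : Set G)) a = 1 := by
      refine (QuotientGroup.eq_one_iff _).2 fun y hy => ?_
      rw [h, SetLike.mem_coe, Subgroup.mem_bot] at hy
      rw [hy, one_mul, mul_one]
    rw [h1]; exact one_mem _
  have hYp : IsPGroup q Y := hB.to_le hYB
  have hYQ : Y ≤ Q := LEBasic.le_pCore hYn hYp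
  obtain ⟨N₁, hN₁n, hN₁Y, hN₁c, hN₁e⟩ := PStable.exists_elementary_factor hYp hY1
  obtain ⟨N, ⟨hNn, hN₁N, hNY⟩, hNmax⟩ := Set.exists_max_image
    {N : Subgroup G | N.Normal ∧ N₁ ≤ N ∧ N < Y} (fun N => Nat.card N) (Set.toFinite _)
    ⟨N₁, hN₁n, le_rfl, hN₁Y⟩
  haveI := hNn
  have hQY : ⁅Y, Q⁆ ≤ N := by
    have hle : ⁅Y, Q⁆ ⊔ N ≤ Y := sup_le (Subgroup.commutator_le_left Y Q) hNY.le
    by_cases he : ⁅Y, Q⁆ ⊔ N = Y
    · exfalso
      exact hNY.not_ge (Fusion.le_of_le_commutator_sup hQp.isNilpotent hYQ (hNY.le.trans hYQ)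
        (by rw [Subgroup.normalizer_eq_top]; exact le_top) he.ge)
    · have h1 := hNmax (⁅Y, Q⁆ ⊔ N) ⟨Subgroup.sup_normal _ _, hN₁N.trans le_sup_right,
        lt_of_le_of_ne hle he⟩
      exact le_sup_left.trans (Subgroup.eq_of_le_of_card_ge le_sup_right h1).ge
  have haN : a ∈ ZJ.stab q N := by
    by_contra h
    have := hYmin N ⟨hNn, hNY.le.trans hYB, h⟩
    exact absurd this (not_le.2 (Set.ncard_lt_ncard (SetLike.coe_ssubset_coe.2 hNY) (Set.toFinite _)))
  set f := QuotientGroup.mk' N with hf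
  have hker : ∀ g, f g = 1 ↔ g ∈ N := fun g => QuotientGroup.eq_one_iff g
  set V := Y.map f with hV
  haveI : V.Normal := hYn.map f (QuotientGroup.mk'_surjective N)
  have hVc : ∀ u v : V, u * v = v * u := by
    rintro ⟨_, u, hu, rfl⟩ ⟨_, v, hv, rfl⟩
    apply Subtype.ext
    change f u * f v = f v * f u
    rw [← commutatorElement_eq_one_iff_mul_comm, ← map_commutatorElement, hker]
    exact hN₁N (hN₁c u hu v hv)
  letI : CommGroup V := { (inferInstance : Group V) with mul_comm := hVc }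
  have hexp : ∀ v : V, v ^ q = 1 := by
    rintro ⟨_, u, hu, rfl⟩
    exact Subtype.ext (by
      rw [SubmonoidClass.coe_pow, ← map_pow, Subgroup.coe_one, hker]; exact hN₁N (hN₁e u hu))
  set ρ₀ : G →* MulAut V := (MulAut.conjNormal (H := V)).comp f with hρ₀
  have hρv : ∀ (g : G) (v : V), (ρ₀ g v : G ⧸ N) = f g * v * (f g)⁻¹ := fun g v => by
    rw [hρ₀, MonoidHom.comp_apply, MulAut.conjNormal_apply]
  set σ := ρ₀.rangeRestrict with hσdef
  have hσs : Function.Surjective σ := ρ₀.rangeRestrict_surjective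
  have htriv : ∀ g, (∀ y ∈ Y, ⁅g, y⁆ ∈ N) → σ g = 1 := by
    intro g hg
    refine Subtype.ext (MulEquiv.ext ?_)
    rintro ⟨_, y, hy, rfl⟩
    show ρ₀ g _ = _
    apply Subtype.ext
    rw [hρv]
    show f g * f y * (f g)⁻¹ = f y
    have h1 := (hker _).2 (hg y hy)
    rw [map_commutatorElement, commutatorElement_eq_one_iff_mul_comm] at h1
    rw [h1, mul_inv_cancel_right]
  have hσQ : ∀ g ∈ Q, σ g = 1 := fun g hg => htriv g fun y hy => by
    rw [← commutatorElement_inv]
    exact inv_mem (hQY (Subgroup.commutator_mem_commutator hy hg))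
  have hσC : ∀ g ∈ Subgroup.centralizer (Q : Set G), σ g = 1 := fun g hg => htriv g fun y hy => by
    rw [commutatorElement_eq_one_iff_mul_comm.2 (hg y (hYQ hy)).symm]
    exact one_mem N
  have hquad : TwoClosedZJ.Quad ρ₀.range.subtype (σ a) := by
    intro v
    show ρ₀ a (ρ₀ a v * v⁻¹) = ρ₀ a v * v⁻¹
    obtain ⟨_, y, hy, rfl⟩ := v
    apply Subtype.ext
    simp only [hρv, Subgroup.coe_mul, Subgroup.coe_inv, ← map_inv, ← map_mul]
    have h1 : ⁅a * y * a⁻¹ * y⁻¹, a⁆ = 1 := by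
      rw [← Subgroup.mem_bot, ← hqa0]
      refine Subgroup.commutator_mem_commutator ?_ (Subgroup.mem_zpowers a)
      rw [show a * y * a⁻¹ * y⁻¹ = ⁅y, a⁆⁻¹ by rw [commutatorElement_def]; group]
      exact Subgroup.inv_mem _ (Subgroup.commutator_mem_commutator (hYB hy) (Subgroup.mem_zpowers a))
    rw [commutatorElement_eq_one_iff_mul_comm] at h1
    congr 1
    rw [← h1, mul_inv_cancel_right]
  have hσa : σ a ∉ Cfsg.pCore q ρ₀.range := by
    intro hmem
    refine hYa ?_
    set X := ZJ.stab q N ⊓ (Cfsg.pCore q ρ₀.range).comap σ with hX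
    haveI : X.Normal := by
      haveI := (Cfsg.pCore_normal q ρ₀.range).comap σ
      exact Subgroup.normal_inf_normal _ _
    refine (show X ≤ ZJ.stab q Y from ?_) ⟨haN, hmem⟩
    set r := QuotientGroup.mk' (Subgroup.centralizer (Y : Set G)) with hr
    rw [ZJ.stab, ← Subgroup.map_le_iff_le_comap]
    refine PBasic.le_pCore (Subgroup.Normal.map inferInstance _ (QuotientGroup.mk'_surjective _))
      (PBasic.isPGroup_iff_forall_coprime.2 fun y ho => ?_)
    obtain ⟨x, hx, hxy⟩ := y.2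
    obtain ⟨u, v, huv, -, hv, ⟨k, hk⟩, hvo⟩ := PBasic.exists_pPart_mul (p := q) x
    have hvX : v ∈ X := Subgroup.zpowers_le.2 hx hv
    have hqv : σ v = 1 := PBasic.eq_one_of_isPGroup_of_coprime (PBasic.pCore_isPGroup q _) hvX.2
      (Nat.Coprime.coprime_dvd_left (orderOf_map_dvd σ v) hvo)
    have hvY : v ∈ ZJ.stab q Y := by
      refine ZJNPC.mem_stab_of_factor hYp hNY.le hvX.1 fun w hw => ?_
      have h1 : ρ₀ v = 1 := congrArg Subtype.val hqv
      have h2 : (ρ₀ v ⟨f w, Subgroup.mem_map_of_mem f hw⟩ : G ⧸ N) = f w := by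
        rw [h1]; rfl
      rw [hρv] at h2
      rw [← hker, map_commutatorElement, commutatorElement_eq_one_iff_mul_comm]
      exact mul_inv_eq_iff_eq_mul.1 h2
    have hrv : r v = 1 := PBasic.eq_one_of_isPGroup_of_coprime (PBasic.pCore_isPGroup q _) hvY
      (Nat.Coprime.coprime_dvd_left (orderOf_map_dvd r v) hvo)
    have hyu : (y : G ⧸ Subgroup.centralizer (Y : Set G)) = r u := by
      rw [← hxy, ← huv, map_mul, hrv, mul_one]
    apply Subtype.ext
    rw [Subgroup.coe_one, hyu, ← orderOf_eq_one_iff]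
    refine Nat.eq_one_of_dvd_coprimes (a := q ^ k) (b := orderOf (y : G ⧸ Subgroup.centralizer (Y : Set G)))
      ?_ (hk ▸ orderOf_map_dvd r u) (hyu ▸ dvd_rfl)
    rw [Subgroup.orderOf_coe]
    exact Nat.Coprime.pow_left k ho.symm
  refine no_quadratic hq2 hexp ρ₀.range.subtype ρ₀.range.subtype_injective ?_ ?_ hquad hσa
  · intro t ht R hR htR r hr
    by_contra hne
    have htN : t ∈ Subgroup.normalizer (R : Set ρ₀.range) := by
      refine Subgroup.mem_normalizer_iff_map_conj_eq.2 (Subgroup.eq_of_le_of_card_ge ?_ ?_)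
      · rintro _ ⟨w, hw, rfl⟩
        exact htR w hw
      · rw [Subgroup.card_map_of_injective (MulAut.conj t).injective]
    obtain ⟨g, P, ⟨k, hk⟩, hfg, hP, hPR, hgP⟩ := exists_lift σ hσs hR ht htN
    obtain ⟨y, hy, rfl⟩ : r ∈ P.map σ := hPR.symm ▸ hr
    refine hGbar (realIn_of_normalizes (hP.map π) le_top k (π g) (by rw [← map_pow, hk, map_one])
      trivial ?_ (π y) (Subgroup.mem_map_of_mem π hy) fun h => hne ?_)
    · rintro _ ⟨z, hz, rfl⟩
      exact ⟨g * z * g⁻¹, hgP z hz, by rw [map_mul, map_mul, map_inv]⟩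
    · have h1 : (g * y * g⁻¹) * y⁻¹ ∈ Q := by
        rw [← QuotientGroup.eq_one_iff]
        show π _ = 1
        rw [map_mul, map_mul, map_mul, map_inv, map_inv, h, mul_inv_cancel]
      have h2 := hσQ _ h1
      rw [map_mul, map_mul, map_mul, map_inv, map_inv, hfg] at h2
      exact mul_inv_eq_one.1 h2
  · intro S M hSM hM t htM ht
    obtain ⟨T, rfl⟩ := Sylow.mapSurjective_surjective hσs q S
    obtain ⟨g₁, rfl⟩ := hσs t
    obtain ⟨g, hg, hg2, hfg⟩ := two_lift σ (g := g₁) ht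
    rw [← hfg]
    refine hσC g (htwo T (M.comap σ) (Subgroup.map_le_iff_le_comap.1 ?_) ?_ g
      ((Subgroup.zpowers_le.2 htM : Subgroup.zpowers g₁ ≤ M.comap σ) hg) hg2)
    · rwa [Sylow.coe_mapSurjective] at hSM
    · intro h
      exact hM (by
        rw [← Subgroup.map_comap_eq_self_of_surjective hσs M, h, Subgroup.map_top_of_surjective σ hσs])

omit IH in
/-- A real element of odd prime power order yields a witness. -/
theorem witness_of_realIn {G : Type u} [Group G] [Finite G] (h : RealIn q (⊤ : Subgroup G)) :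
    Witness q G := by
  have key : ∀ (n : ℕ) (G : Type u) [Group G] [Finite G], Nat.card G = n →
      RealIn q (⊤ : Subgroup G) → Witness q G := by
    intro n
    induction n using Nat.strong_induction_on with
    | _ n ih =>
      intro G _ _ hn hr
      exact witness_step hq2 (fun X _ _ hlt hX => ih _ (hn ▸ hlt) X rfl hX) hr
  exact key _ G rfl h

end Cfsg.Agent.TwoClosedZJ
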